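import Mathlib.CategoryTheory.Localization.CalculusOfFractions
import Mathlib.Data.Fintype.Option

/-!
# Common denominators and common equalizing denominators in a calculus of left fractions
-/

set_option autoImplicit false

open CategoryTheory

universe v u v' u' w

namespace K302.Fractions

variable {C : Type u} [Category.{v} C] {D : Type u'} [Category.{v'} D] (W : MorphismProperty C) (L : C ⥤ D)
  [L.IsLocalization W] [W.HasLeftCalculusOfFractions]

include W in
theorem exists_frac {X Y : C} (g : L.obj X ⟶ L.obj Y) :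
    ∃ (Y' : C) (s : Y ⟶ Y') (_ : W s) (f : X ⟶ Y'), g ≫ L.map s = L.map f := by
  obtain ⟨φ, hφ⟩ := Localization.exists_leftFraction L W g
  exact ⟨φ.Y', φ.s, φ.hs, φ.f, by rw [hφ, MorphismProperty.LeftFraction.map_comp_map_s]⟩

omit [L.IsLocalization W] in
theorem ore {X Y Z : C} (s : X ⟶ Y) (hs : W s) (f : X ⟶ Z) :
    ∃ (T : C) (t : Z ⟶ T) (_ : W t) (g : Y ⟶ T), f ≫ t = s ≫ g := by
  obtain ⟨ψ, hψ⟩ := MorphismProperty.RightFraction.exists_leftFraction
    (MorphismProperty.RightFraction.mk (W := W) s hs f)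
  exact ⟨ψ.Y', ψ.s, ψ.hs, ψ.f, hψ⟩

theorem exists_common {ι : Type w} [Finite ι] : ∀ (X : ι → C) (Y : C) (g : ∀ i, L.obj (X i) ⟶ L.obj Y),
    ∃ (Y' : C) (s : Y ⟶ Y') (_ : W s) (f : ∀ i, X i ⟶ Y'), ∀ i, g i ≫ L.map s = L.map (f i) := by
  induction ι using Finite.induction_empty_option with
  | of_equiv e ih =>
    intro X Y g
    obtain ⟨Y', s, hs, f, hf⟩ := ih (fun i => X (e i)) Y (fun i => g (e i))
    refine ⟨Y', s, hs, fun i => eqToHom (by simp) ≫ f (e.symm i), fun i => ?_⟩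
    obtain ⟨i, rfl⟩ := e.surjective i
    rw [hf i, Functor.map_comp, ← hf, eqToHom_map]
    have key : ∀ j (h : j = i), g (e i) ≫ L.map s = eqToHom (by rw [h]) ≫ g (e j) ≫ L.map s := by
      rintro _ rfl
      simp
    rw [← hf]
    exact key _ (by simp)
  | h_empty =>
    intro X Y g
    exact ⟨Y, 𝟙 Y, W.id_mem Y, fun i => i.elim, fun i => i.elim⟩
  | h_option ih =>
    intro X Y g
    obtain ⟨Y', s, hs, f, hf⟩ := ih (fun i => X (some i)) Y (fun i => g (some i))
    obtain ⟨Y₀, s₀, hs₀, f₀, hf₀⟩ := exists_frac W L (g none)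
    obtain ⟨T, t, ht, h, hth⟩ := ore W s hs s₀
    refine ⟨T, s₀ ≫ t, W.comp_mem _ _ hs₀ ht, fun i => match i with
      | none => f₀ ≫ t
      | some i => f i ≫ h, ?_⟩
    rintro (_ | i)
    · simp only [Functor.map_comp]
      rw [reassoc_of% hf₀]
    · simp only [hth, Functor.map_comp]
      rw [reassoc_of% (hf i)]

include W in
theorem exists_equalize {X Y : C} {f g : X ⟶ Y} (h : L.map f = L.map g) :
    ∃ (Y' : C) (s : Y ⟶ Y') (_ : W s), f ≫ s = g ≫ s :=
  (MorphismProperty.map_eq_iff_postcomp L W f g).mp h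

theorem exists_common_equalize {ι : Type w} [Finite ι] : ∀ (X : ι → C) (Y : C) (f g : ∀ i, X i ⟶ Y)
    (_ : ∀ i, L.map (f i) = L.map (g i)),
    ∃ (Y' : C) (s : Y ⟶ Y') (_ : W s), ∀ i, f i ≫ s = g i ≫ s := by
  induction ι using Finite.induction_empty_option with
  | of_equiv e ih =>
    intro X Y f g h
    obtain ⟨Y', s, hs, hf⟩ := ih (fun i => X (e i)) Y (fun i => f (e i)) (fun i => g (e i)) (fun i => h (e i))
    refine ⟨Y', s, hs, fun i => ?_⟩
    obtain ⟨i, rfl⟩ := e.surjective i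
    exact hf i
  | h_empty =>
    intro X Y f g h
    exact ⟨Y, 𝟙 Y, W.id_mem Y, fun i => i.elim⟩
  | h_option ih =>
    intro X Y f g h
    obtain ⟨Y', s, hs, hf⟩ := ih (fun i => X (some i)) Y (fun i => f (some i)) (fun i => g (some i))
      (fun i => h (some i))
    obtain ⟨Y₀, s₀, hs₀, h₀⟩ := exists_equalize W L (f := f none ≫ s) (g := g none ≫ s)
      (by rw [Functor.map_comp, Functor.map_comp, h none])
    refine ⟨Y₀, s ≫ s₀, W.comp_mem _ _ hs hs₀, ?_⟩
    rintro (_ | i)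
    · simpa using h₀
    · rw [reassoc_of% (hf i)]

end K302.Fractions
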